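import Groth.Agent.H23Ext.Over

/-! The conorm. -/

set_option autoImplicit false
set_option linter.unusedSectionVars false

namespace Groth.Agent.H23Ext

open Groth.Agent.H23FunFld

variable {k K K' : Type*} [Field k] [Field K] [Field K'] [Algebra k K] [Algebra K K'] [Algebra k K']
  [IsScalarTower k K K'] [FiniteDimensional K K']

theorem conorm_apply (D : FunFld.Divisor k K) {Q : FunFld.Place k K'} {P : FunFld.Place k K}
    {e : ℕ} (he : FunFld.IsOverWith Q P e)
    (hfin : {R : FunFld.Place k K' | FunFld.IsOver R P}.Finite) :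
    FunFld.conorm K' D Q = e * D P := by
  classical
  rw [FunFld.conorm, Finsupp.sum_apply]
  rw [Finsupp.sum, Finset.sum_eq_single P]
  · rw [dif_pos hfin, Finsupp.smul_apply, Finsupp.finsetSum_apply, Finset.sum_eq_single Q]
    · rw [Finsupp.smul_apply, Finsupp.single_eq_same, ramIdx_eq he]
      simp [mul_comm]
    · intro R _ hR
      rw [Finsupp.smul_apply, Finsupp.single_eq_of_ne (Ne.symm hR), smul_zero]
    · exact fun h => absurd (hfin.mem_toFinset.2 ⟨e, he⟩) h
  · intro R _ hR
    rw [Finsupp.smul_apply]
    split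
    · rename_i h
      rw [Finsupp.finsetSum_apply, Finset.sum_eq_zero, smul_zero]
      intro S hS
      have hSQ : S ≠ Q := by
        rintro rfl
        exact hR (isOver_unique (h.mem_toFinset.1 hS) ⟨e, he⟩)
      rw [Finsupp.smul_apply, Finsupp.single_eq_of_ne (Ne.symm hSQ), smul_zero]
    · simp
  · intro h
    rw [Finsupp.notMem_support_iff.1 h, zero_smul, Finsupp.zero_apply]

theorem deg_conorm (hK : FunFld.IsFunctionField k K) (D : FunFld.Divisor k K) :
    (FunFld.conorm K' D).deg = Module.finrank K K' * D.deg := by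
  classical
  let degh : FunFld.Divisor k K' →+ ℤ :=
    AddMonoidHom.mk' FunFld.Divisor.deg deg_add
  change degh (D.sum _) = _
  rw [map_finsuppSum, FunFld.Divisor.deg, Finsupp.mul_sum]
  refine Finsupp.sum_congr fun P _ => ?_
  rw [map_zsmul, dif_pos (finite_isOver hK P), map_sum]
  have h := sum_ramIdx_mul_deg hK P (finite_isOver (K' := K') hK P).toFinset
    (fun Q => Set.Finite.mem_toFinset _)
  calc D P • ∑ Q ∈ _, degh ((FunFld.ramIdx Q P : ℤ) • Finsupp.single Q 1)
      = D P * ((∑ Q ∈ (finite_isOver (K' := K') hK P).toFinset, FunFld.ramIdx Q P * Q.deg : ℕ) : ℤ) := by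
        rw [smul_eq_mul]
        congr 1
        push_cast
        refine Finset.sum_congr rfl fun Q _ => ?_
        rw [map_zsmul, smul_eq_mul, show degh (Finsupp.single Q 1) = 1 * (Q.deg : ℤ) from
          deg_single Q 1, one_mul]
    _ = _ := by rw [h]; push_cast; ring

theorem div_algebraMap (hK : FunFld.IsFunctionField k K) (x : K) :
    FunFld.div k (algebraMap K K' x) = FunFld.conorm K' (FunFld.div k x) := by
  ext Q
  obtain ⟨P, e, he⟩ := exists_below hK.1 Q
  rw [div_apply' (isFF_extension (K' := K') hK.1),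
    conorm_apply _ he (finite_isOver hK P), div_apply hK, IsOverWith.ord_eq he]

end Groth.Agent.H23Ext
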