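import Groth.Agent.H23Ext.Constants
import Groth.Agent.H23FunFld.Riemann
import Groth.Prelude.Def_W4bk4goldsch23Ext

/-! Places of a finite extension lying over a place, and the fundamental identity. -/

set_option autoImplicit false
set_option linter.unusedSectionVars false

namespace Groth.Agent.H23Ext

open Groth.Agent.H23FunFld WithZero

variable {k K K' : Type*} [Field k] [Field K] [Field K'] [Algebra k K] [Algebra K K'] [Algebra k K']
  [IsScalarTower k K K']

/-- `[K' : k(x)] = [K' : K] [K : k(x)]`. -/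
theorem finrank_adjoin_algebraMap (x : K) :
    Module.finrank (IntermediateField.adjoin k ({algebraMap K K' x} : Set K')) K' =
      Module.finrank (IntermediateField.adjoin k ({x} : Set K)) K * Module.finrank K K' := by
  let E := IntermediateField.adjoin k ({x} : Set K)
  let f := IsScalarTower.toAlgHom k K K'
  have hmap : E.map f = IntermediateField.adjoin k ({algebraMap K K' x} : Set K') := by
    rw [IntermediateField.adjoin_map, Set.image_singleton]; rfl
  rw [← hmap]
  rw [Module.finrank_mul_finrank (IntermediateField.adjoin k ({x} : Set K)) K K']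
  exact (Algebra.finrank_eq_of_equiv_equiv (E.equivMap f).toRingEquiv (RingEquiv.refl K')
    (RingHom.ext fun z => rfl)).symm

theorem transcendental_algebraMap {x : K} (hx : Transcendental k x) :
    Transcendental k (algebraMap K K' x) := fun h =>
  hx ((isAlgebraic_algebraMap_iff (algebraMap K K').injective).1 h)

variable [FiniteDimensional K K']

theorem isFF_extension (hK : IsFF k K) : IsFF k K' := by
  obtain ⟨x, hx, hfin⟩ := hK
  refine ⟨algebraMap K K' x, transcendental_algebraMap hx, Module.finite_of_finrank_pos ?_⟩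
  rw [finrank_adjoin_algebraMap]
  exact Nat.mul_pos Module.finrank_pos Module.finrank_pos

/-- A place of `K'` is nontrivial on `K`. -/
theorem exists_val_ne_one (Q : FunFld.Place k K') :
    ∃ z : K, z ≠ 0 ∧ Q.1 (algebraMap K K' z) ≠ 1 := by
  by_contra h
  simp only [not_exists, not_and, not_not] at h
  have hQ : ∀ c : K, Q.1 (algebraMap K K' c) ≤ 1 := fun c => by
    rcases eq_or_ne c 0 with rfl | hc
    · simp
    · exact (h c hc).le
  obtain ⟨y, hy0, hy⟩ := exists_val_eq Q 1
  have := transcendental_of_val_ne_one (⟨Q.1, hQ, Q.2.2⟩ : FunFld.Place K K') hy0 (fun h1 => by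
    have h2 : Q.1 y = 1 := h1
    rw [hy, ← WithZero.exp_zero, WithZero.exp_inj] at h2
    omega)
  exact this (Algebra.IsAlgebraic.isAlgebraic y)

omit [FiniteDimensional K K'] [IsScalarTower k K K'] in
theorem IsOverWith.ord_eq {Q : FunFld.Place k K'} {P : FunFld.Place k K} {e : ℕ}
    (h : FunFld.IsOverWith Q P e) (z : K) :
    Q.ord (algebraMap K K' z) = e * P.ord z := by
  rcases eq_or_ne z 0 with rfl | hz
  · simp [ord_zero]
  have h1 := h z
  rw [val_eq_exp P hz, val_eq_exp Q (by simpa using hz), ← exp_nsmul, exp_inj, nsmul_eq_mul] at h1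
  linarith

theorem IsOverWith.pos {Q : FunFld.Place k K'} {P : FunFld.Place k K} {e : ℕ}
    (h : FunFld.IsOverWith Q P e) : 0 < e := by
  obtain ⟨z, hz, hz1⟩ := exists_val_ne_one (K := K) Q
  refine Nat.pos_of_ne_zero fun he => hz1 ?_
  rw [h z, he, pow_zero]

theorem IsOverWith.unique {Q : FunFld.Place k K'} {P : FunFld.Place k K} {e e' : ℕ}
    (h : FunFld.IsOverWith Q P e) (h' : FunFld.IsOverWith Q P e') : e = e' := by
  obtain ⟨t, ht0, ht⟩ := exists_val_eq P (-1)
  have hP : P.ord t = 1 := by simp [FunFld.Place.ord, ht]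
  have h1 := IsOverWith.ord_eq h t
  have h2 := IsOverWith.ord_eq h' t
  rw [hP] at h1 h2
  omega

theorem ramIdx_eq {Q : FunFld.Place k K'} {P : FunFld.Place k K} {e : ℕ}
    (h : FunFld.IsOverWith Q P e) : FunFld.ramIdx Q P = e := by
  classical
  have hO : FunFld.IsOver Q P := ⟨e, h⟩
  rw [FunFld.ramIdx, dif_pos hO]
  exact IsOverWith.unique (Nat.find_spec hO) h

theorem le_one_iff_of_isOver {Q : FunFld.Place k K'} {P : FunFld.Place k K}
    (h : FunFld.IsOver Q P) (z : K) : Q.1 (algebraMap K K' z) ≤ 1 ↔ P.1 z ≤ 1 := by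
  obtain ⟨e, he⟩ := h
  rw [he z, pow_le_one_iff (IsOverWith.pos he).ne']

theorem isOver_unique {Q : FunFld.Place k K'} {P P' : FunFld.Place k K}
    (h : FunFld.IsOver Q P) (h' : FunFld.IsOver Q P') : P = P' :=
  place_eq_of_le fun z hz => (le_one_iff_of_isOver h' z).1 ((le_one_iff_of_isOver h z).2 hz)

variable (hK : FunFld.IsFunctionField k K)

/-- Every place of `K'` lies over a place of `K`. -/
theorem exists_below (hK : IsFF k K) (Q : FunFld.Place k K') :
    ∃ P : FunFld.Place k K, FunFld.IsOver Q P := by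
  let v := Q.1.comap (algebraMap K K')
  have hO : v.valuationSubring ≠ ⊤ := by
    intro htop
    obtain ⟨z, hz, hz1⟩ := exists_val_ne_one (K := K) Q
    have hle : ∀ w : K, v w ≤ 1 := fun w => by
      have : w ∈ v.valuationSubring := htop ▸ ValuationSubring.mem_top w
      exact this
    refine hz1 (le_antisymm (hle z) ?_)
    have := hle z⁻¹
    rw [map_inv₀] at this
    exact (inv_le_one₀ (zero_lt_iff.2 (by simpa [v] using hz))).1 this
  obtain ⟨P, hP⟩ := exists_place_of_valuationSubring' hK v.valuationSubring (fun c => by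
    change Q.1 (algebraMap K K' (algebraMap k K c)) ≤ 1
    rw [← IsScalarTower.algebraMap_apply]
    exact Q.2.1 c) hO
  have hiff : ∀ w : K, Q.1 (algebraMap K K' w) ≤ 1 ↔ P.1 w ≤ 1 := fun w => (hP w).symm
  obtain ⟨t, ht0, ht⟩ := exists_val_eq P (-1)
  have ht' : algebraMap K K' t ≠ 0 := by simpa using ht0
  have hnn : 0 ≤ Q.ord (algebraMap K K' t) := by
    refine (val_le_one_iff Q ht').1 ((hiff t).2 ?_)
    rw [ht, ← exp_zero, exp_le_exp]; omega
  refine ⟨P, (Q.ord (algebraMap K K' t)).toNat, fun w => ?_⟩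
  rcases eq_or_ne w 0 with rfl | hw
  · have hne : (Q.ord (algebraMap K K' t)).toNat ≠ 0 := by
      intro h0
      have h1 : Q.1 (algebraMap K K' t⁻¹) ≤ 1 := by
        rw [map_inv₀, val_le_one_iff Q (inv_ne_zero ht'), ord_inv]; omega
      rw [hiff, map_inv₀, ht, ← exp_neg, ← exp_zero, exp_le_exp] at h1
      omega
    simp [zero_pow hne]
  have hw' : algebraMap K K' w ≠ 0 := by simpa using hw
  obtain ⟨u, hu⟩ : ∃ u, u = w / t ^ P.ord w := ⟨_, rfl⟩
  have hu0 : u ≠ 0 := hu ▸ div_ne_zero hw (zpow_ne_zero _ ht0)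
  have hPu : P.1 u = 1 := by
    rw [hu, map_div₀, map_zpow₀, ht, val_eq_exp P hw, ← exp_zsmul, smul_eq_mul, mul_neg, mul_one,
      div_self exp_ne_zero]
  have hQu : Q.1 (algebraMap K K' u) = 1 := by
    refine le_antisymm ((hiff u).2 hPu.le) ?_
    have := (hiff u⁻¹).2 (by rw [map_inv₀, hPu, inv_one])
    rw [map_inv₀, map_inv₀] at this
    exact (inv_le_one₀ (zero_lt_iff.2 (val_ne_zero Q (by simpa using hu0)))).1 this
  have e : w = u * t ^ P.ord w := by rw [hu, div_mul_cancel₀ _ (zpow_ne_zero _ ht0)]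
  conv_lhs => rw [e]
  rw [map_mul, map_mul, hQu, one_mul, map_zpow₀, map_zpow₀, val_eq_exp Q ht', val_eq_exp P hw,
    ← exp_zsmul, ← exp_nsmul, exp_inj, nsmul_eq_mul, smul_eq_mul,
    Int.toNat_of_nonneg hnn]
  ring

include hK

/-- A function whose only zero is `P`. -/
theorem exists_only_zero (P : FunFld.Place k K) :
    ∃ x : K, Transcendental k x ∧ 0 < P.ord x ∧ ∀ R, R ≠ P → R.ord x ≤ 0 := by
  let n : ℕ := FunFld.genus k K + 1
  have h1 := ell_ge hK (Finsupp.single P (n : ℤ))
  rw [deg_single] at h1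
  have hd : (1 : ℤ) ≤ P.deg := by have := deg_pos hK P; omega
  have h2 : (n : ℤ) ≤ (n : ℤ) * P.deg := le_mul_of_one_le_right (Int.natCast_nonneg n) hd
  obtain ⟨y, hy, hy0⟩ : ∃ y ∈ FunFld.L (Finsupp.single P (n : ℤ)),
      y ∉ FunFld.L (0 : FunFld.Divisor k K) := by
    by_contra hc
    simp only [not_exists, not_and, not_not] at hc
    have := finiteDimensional_L hK (0 : FunFld.Divisor k K)
    have h3 : FunFld.ell (Finsupp.single P (n : ℤ)) ≤ FunFld.ell (0 : FunFld.Divisor k K) :=
      Submodule.finrank_mono fun y hy => hc y hy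
    rw [ell_zero hK] at h3
    omega
  have hyne : y ≠ 0 := fun h => hy0 (h ▸ Submodule.zero_mem _)
  have htr : Transcendental k y := transcendental_of_notMem hK fun ⟨c, hc⟩ =>
    hy0 (hc ▸ fun R => by simpa using R.2.1 c)
  have hall : ∀ R, R ≠ P → 0 ≤ R.ord y := fun R hR => by
    have := (val_le_exp_iff R hyne).1 (hy R)
    rw [Finsupp.single_eq_of_ne hR] at this
    omega
  refine ⟨y⁻¹, fun h => htr (by simpa using h.inv), ?_, fun R hR => by
    rw [ord_inv]; linarith [hall R hR]⟩
  rw [ord_inv]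
  by_contra hle
  refine hy0 fun R => ?_
  rw [Finsupp.coe_zero, Pi.zero_apply, val_le_exp_iff R hyne]
  rcases eq_or_ne R P with rfl | hR
  · omega
  · linarith [hall R hR]

theorem isOver_iff_pos {P : FunFld.Place k K} {x : K} (hxP : 0 < P.ord x)
    (hx : ∀ R, R ≠ P → R.ord x ≤ 0) (Q : FunFld.Place k K') :
    FunFld.IsOver Q P ↔ 0 < Q.ord (algebraMap K K' x) := by
  constructor
  · rintro ⟨e, he⟩
    rw [IsOverWith.ord_eq he]
    have := IsOverWith.pos he
    positivity
  · intro hQ
    obtain ⟨R, e, he⟩ := exists_below hK.1 Q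
    rw [IsOverWith.ord_eq he] at hQ
    have hR : R = P := by
      by_contra hne
      have := hx R hne
      nlinarith
    exact hR ▸ ⟨e, he⟩

theorem finite_isOver (P : FunFld.Place k K) :
    {Q : FunFld.Place k K' | FunFld.IsOver Q P}.Finite := by
  obtain ⟨x, -, hxP, hx⟩ := exists_only_zero hK P
  refine (finite_support (isFF_extension (K' := K') hK.1) (algebraMap K K' x)).subset fun Q hQ => ?_
  have := (isOver_iff_pos hK hxP hx Q).1 hQ
  simp only [Function.mem_support]
  omega

/-- The fundamental identity `∑ e f = n`, with degrees. -/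
theorem sum_ramIdx_mul_deg (P : FunFld.Place k K) (Qs : Finset (FunFld.Place k K'))
    (hQs : ∀ Q, Q ∈ Qs ↔ FunFld.IsOver Q P) :
    ∑ Q ∈ Qs, FunFld.ramIdx Q P * Q.deg = Module.finrank K K' * P.deg := by
  obtain ⟨x, htr, hxP, hx⟩ := exists_only_zero hK P
  have h1 := sum_zeros (isFF_extension (K' := K') hK.1) (transcendental_algebraMap htr) Qs
    (fun Q => (hQs Q).trans (isOver_iff_pos hK hxP hx Q))
  have h2 := sum_zeros (isFF_of_isFunctionField hK) htr {P} (fun R => by
    rw [Finset.mem_singleton]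
    refine ⟨fun h => h ▸ hxP, fun h => ?_⟩
    by_contra hne
    have := hx R hne
    omega)
  rw [Finset.sum_singleton] at h2
  rw [finrank_adjoin_algebraMap, Nat.cast_mul, ← h2] at h1
  have h3 : (P.ord x) * ((∑ Q ∈ Qs, FunFld.ramIdx Q P * Q.deg : ℕ) : ℤ) =
      P.ord x * ((Module.finrank K K' * P.deg : ℕ) : ℤ) := by
    push_cast
    rw [Finset.mul_sum]
    calc ∑ Q ∈ Qs, P.ord x * ((FunFld.ramIdx Q P : ℤ) * Q.deg) =
        ∑ Q ∈ Qs, Q.ord (algebraMap K K' x) * (Q.deg : ℤ) := Finset.sum_congr rfl fun Q hQ => by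
          obtain ⟨e, he⟩ := (hQs Q).1 hQ
          rw [ramIdx_eq he, IsOverWith.ord_eq he]; ring
      _ = _ := by rw [h1]; ring
  exact_mod_cast mul_left_cancel₀ hxP.ne' h3

/-- Some place lies over `P`. -/
theorem exists_above (P : FunFld.Place k K) :
    ∃ Q : FunFld.Place k K', FunFld.IsOver Q P := by
  by_contra h
  have h1 := sum_ramIdx_mul_deg (K' := K') hK P ∅ (fun Q => by simpa using fun hQ => h ⟨Q, hQ⟩)
  rw [Finset.sum_empty] at h1
  have := Nat.mul_pos (Module.finrank_pos (R := K) (M := K')) (deg_pos hK P)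
  omega

end Groth.Agent.H23Ext
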