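import Groth.Agent.H23FunFld.Degree
import Mathlib.FieldTheory.IntermediateField.Adjoin.Basic
import Groth.Agent.H23FunFld.Places
import Mathlib.FieldTheory.AlgebraicClosure
import Mathlib.RingTheory.Localization.Module

/-!
A field of transcendence degree one, finitely generated over `k` but with a possibly larger field of
constants: places, orders and the degree identity.
-/

set_option autoImplicit false
set_option linter.unusedSectionVars false

namespace Groth.Agent.H23Ext

open Groth.Agent.H23FunFld

variable {k K : Type*} [Field k] [Field K] [Algebra k K]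

variable (k K) in
/-- `K` is finite over `k(x)` for some transcendental `x`. -/
def IsFF : Prop :=
  ∃ x : K, Transcendental k x ∧ FiniteDimensional (IntermediateField.adjoin k ({x} : Set K)) K

variable (k K) in
/-- The field of constants of `K/k`. -/
abbrev cst : IntermediateField k K := algebraicClosure k K

theorem isFF_of_isFunctionField (hK : FunFld.IsFunctionField k K) : IsFF k K := hK.1

theorem mem_cst {y : K} : y ∈ cst k K ↔ IsAlgebraic k y := mem_algebraicClosure_iff

theorem transcendental_cst {x : K} (hx : Transcendental k x) : Transcendental (cst k K) x :=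
  fun h => hx (h.restrictScalars k)

theorem le_restrictScalars_adjoin_cst (x : K) :
    IntermediateField.adjoin k ({x} : Set K) ≤
      (IntermediateField.adjoin (cst k K) ({x} : Set K)).restrictScalars k := by
  rw [IntermediateField.adjoin_le_iff, Set.singleton_subset_iff]
  exact IntermediateField.mem_adjoin_simple_self (cst k K) x

open IntermediateField.algebraAdjoinAdjoin in
/-- `k(x)` and the constants are linearly disjoint. -/
theorem linearIndependent_cst {x : K} (hx : Transcendental k x) {ι : Type*} (b : ι → cst k K)
    (hb : LinearIndependent k b) :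
    LinearIndependent (IntermediateField.adjoin k ({x} : Set K)) (fun i => (b i : K)) := by
  classical
  rw [← LinearIndependent.iff_fractionRing (R := Algebra.adjoin k ({x} : Set K)),
    linearIndependent_iff']
  intro s g hg
  have hrep : ∀ i, ∃ p : Polynomial k, Polynomial.aeval x p = (g i : K) := fun i => by
    have h := (g i).2
    generalize (g i : K) = z at h ⊢
    rw [Algebra.adjoin_singleton_eq_range_aeval] at h
    exact h
  choose p hp using hrep
  let q : Polynomial (cst k K) :=
    ∑ i ∈ s, Polynomial.C (b i) * (p i).map (algebraMap k (cst k K))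
  have hq : q = 0 := by
    refine (transcendental_iff.1 (transcendental_cst hx)) q ?_
    rw [map_sum, ← hg]
    refine Finset.sum_congr rfl fun i _ => ?_
    rw [map_mul, Polynomial.aeval_C, Polynomial.aeval_map_algebraMap, hp, mul_comm]
    rfl
  intro i hi
  have hz : p i = 0 := by
    ext n
    have h1 := congrArg (fun q => Polynomial.coeff q n) hq
    simp only [q, Polynomial.finsetSum_coeff, Polynomial.coeff_C_mul, Polynomial.coeff_map,
      Polynomial.coeff_zero] at h1
    rw [Polynomial.coeff_zero]
    refine linearIndependent_iff'.1 hb s (fun j => (p j).coeff n) ?_ i hi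
    rw [← h1]
    refine Finset.sum_congr rfl fun j _ => ?_
    rw [Algebra.smul_def, mul_comm]
  exact Subtype.ext (by rw [← hp i, hz]; simp)

theorem finiteDimensional_cst (hK : IsFF k K) : FiniteDimensional k (cst k K) := by
  obtain ⟨x, hx, hfin⟩ := hK
  refine Module.rank_lt_aleph0_iff.1 ?_
  refine lt_of_le_of_lt (rank_le fun s hs => ?_)
    (Cardinal.natCast_lt_aleph0 (n := Module.finrank (IntermediateField.adjoin k ({x} : Set K)) K))
  have h := linearIndependent_cst hx (fun i : (s : Set (cst k K)) => (i : cst k K)) hs
  simpa using h.fintype_card_le_finrank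

theorem isFunctionField_cst (hK : IsFF k K) : FunFld.IsFunctionField (cst k K) K := by
  obtain ⟨x, hx, hfin⟩ := hK
  refine ⟨⟨x, transcendental_cst hx, ?_⟩, fun y hy => ⟨⟨y, mem_cst.2 (hy.restrictScalars k)⟩, rfl⟩⟩
  have hle := le_restrictScalars_adjoin_cst (k := k) x
  let := (IntermediateField.inclusion hle).toRingHom.toAlgebra
  have : IsScalarTower (IntermediateField.adjoin k ({x} : Set K))
      ((IntermediateField.adjoin (cst k K) ({x} : Set K)).restrictScalars k) K :=
    IsScalarTower.of_algebraMap_eq fun _ => rfl
  exact Module.Finite.of_restrictScalars_finite (IntermediateField.adjoin k ({x} : Set K))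
    ((IntermediateField.adjoin (cst k K) ({x} : Set K)).restrictScalars k) K

/-- `[K : k(x)] = [k₁ : k] [K : k₁(x)]`. -/
theorem finrank_adjoin_eq (hK : IsFF k K) {x : K} (hx : Transcendental k x) :
    Module.finrank (IntermediateField.adjoin k ({x} : Set K)) K =
      Module.finrank k (cst k K) *
        Module.finrank (IntermediateField.adjoin (cst k K) ({x} : Set K)) K := by
  have := finiteDimensional_cst hK
  let E := IntermediateField.adjoin k ({x} : Set K)
  let M := IntermediateField.adjoin E (cst k K : Set K)
  have hMN : M.restrictScalars k =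
      (IntermediateField.adjoin (cst k K) ({x} : Set K)).restrictScalars k := by
    rw [IntermediateField.adjoin_adjoin_left, IntermediateField.restrictScalars_adjoin,
      Set.union_comm]
  have h1 : Module.finrank M K =
      Module.finrank (IntermediateField.adjoin (cst k K) ({x} : Set K)) K := by
    change Module.finrank (M.restrictScalars k) K =
      Module.finrank ((IntermediateField.adjoin (cst k K) ({x} : Set K)).restrictScalars k) K
    rw [hMN]
  have h2 : Module.finrank E M = Module.finrank k (cst k K) := by
    have hle : Module.rank E M ≤ Module.rank k (cst k K) :=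
      IntermediateField.adjoin_rank_le_of_isAlgebraic_right E (cst k K)
    refine le_antisymm ?_ ?_
    · exact Cardinal.toNat_le_toNat hle (Module.rank_lt_aleph0 k _)
    · have : FiniteDimensional E M := Module.rank_lt_aleph0_iff.1
        (hle.trans_lt (Module.rank_lt_aleph0 k _))
      let bas := Module.finBasis k (cst k K)
      have h := linearIndependent_cst hx bas bas.linearIndependent
      have h' : LinearIndependent E (fun i => (⟨(bas i : K),
          IntermediateField.subset_adjoin E _ (bas i).2⟩ : M)) :=
        LinearIndependent.of_comp M.val.toLinearMap h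
      simpa using h'.fintype_card_le_finrank
  rw [← h1, ← h2, Module.finrank_mul_finrank]

/-- A place over `k` is a place over the constants. -/
def toCst (P : FunFld.Place k K) : FunFld.Place (cst k K) K :=
  ⟨P.1, fun c => by
    by_contra h
    rcases eq_or_ne (c : K) 0 with h0 | h0
    · exact h (by rw [show algebraMap (cst k K) K c = (c : K) from rfl, h0, map_zero]; exact zero_le)
    · exact transcendental_of_val_ne_one P h0 (fun h1 => h h1.le) (mem_cst.1 c.2), P.2.2⟩

/-- A place over the constants is a place over `k`. -/
def ofCst (P : FunFld.Place (cst k K) K) : FunFld.Place k K :=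
  ⟨P.1, fun c => by
    rw [IsScalarTower.algebraMap_apply k (cst k K) K]
    exact P.2.1 _, P.2.2⟩

@[simp] theorem ord_toCst (P : FunFld.Place k K) (x : K) : (toCst P).ord x = P.ord x := rfl

theorem deg_eq_mul (hK : IsFF k K) (P : FunFld.Place k K) :
    P.deg = Module.finrank k (cst k K) * (toCst P).deg := by
  have := finiteDimensional_cst hK
  let a1 : Algebra k (IsLocalRing.ResidueField P.O) := FunFld.Place.algRes P
  let a2 : Algebra (cst k K) (IsLocalRing.ResidueField P.O) := FunFld.Place.algRes (toCst P)
  have tower : @IsScalarTower k (cst k K) (IsLocalRing.ResidueField P.O) _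
      a2.toModule.toSMul a1.toModule.toSMul :=
    @IsScalarTower.of_algebraMap_eq k (cst k K) (IsLocalRing.ResidueField P.O) _ _ _ _ a2 a1
      fun c => rfl
  exact (@Module.finrank_mul_finrank k (cst k K) (IsLocalRing.ResidueField P.O) _ _ _ _ a2.toModule
    a1.toModule tower _ _ _ (@Module.Free.of_divisionRing _ _ _ _ a2.toModule)).symm

theorem deg_pos' (hK : IsFF k K) (P : FunFld.Place k K) : 0 < P.deg := by
  have := finiteDimensional_cst hK
  rw [deg_eq_mul hK]
  exact Nat.mul_pos Module.finrank_pos (deg_pos (isFunctionField_cst hK) _)

theorem finite_support (hK : IsFF k K) (x : K) :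
    (Function.support fun P : FunFld.Place k K => P.ord x).Finite :=
  ((finite_support_ord (isFunctionField_cst hK) x).preimage (f := toCst)
    (fun P _ Q _ h => Subtype.ext ((Subtype.ext_iff.1 h) :))).subset
    fun _ hP => hP

theorem div_apply' (hK : IsFF k K) (x : K) (P : FunFld.Place k K) :
    FunFld.div k x P = P.ord x := by
  rw [FunFld.div, dif_pos (finite_support hK x)]
  rfl

/-- The zeros of `x`, counted with degrees, number `[K : k(x)]`. -/
theorem sum_zeros (hK : IsFF k K) {x : K} (hx : Transcendental k x)
    (S : Finset (FunFld.Place k K)) (hS : ∀ P, P ∈ S ↔ 0 < P.ord x) :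
    ∑ P ∈ S, P.ord x * (P.deg : ℤ) =
      Module.finrank (IntermediateField.adjoin k ({x} : Set K)) K := by
  classical
  have hK1 := isFunctionField_cst hK
  have hx1 := transcendental_cst hx
  rw [finrank_adjoin_eq hK hx, Nat.cast_mul,
    ← adjoin_inv (k := cst k K) x, ← deg_poleDiv hK1 (x := x⁻¹) fun h => hx1 (by simpa using h.inv),
    FunFld.Divisor.deg, Finsupp.sum, Finset.mul_sum]
  refine Finset.sum_nbij' toCst ofCst ?_ ?_ (fun P _ => rfl) (fun P _ => rfl) ?_
  · intro P hP
    rw [Finsupp.mem_support_iff, poleDiv_apply hK1, ord_inv, ord_toCst]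
    have := (hS P).1 hP
    omega
  · intro Q hQ
    rw [Finsupp.mem_support_iff, poleDiv_apply hK1, ord_inv] at hQ
    refine (hS _).2 ?_
    change 0 < Q.ord x
    omega
  · intro P hP
    rw [poleDiv_apply hK1, ord_inv, ord_toCst, deg_eq_mul hK P]
    have := (hS P).1 hP
    rw [show max 0 (- -P.ord x) = P.ord x by omega]
    push_cast
    ring

theorem exists_place_of_valuationSubring' (hK : IsFF k K) (O : ValuationSubring K)
    (hk : ∀ c : k, algebraMap k K c ∈ O) (hO : O ≠ ⊤) :
    ∃ P : FunFld.Place k K, ∀ x, P.1 x ≤ 1 ↔ x ∈ O := by
  have hcst : ∀ c : cst k K, algebraMap (cst k K) K c ∈ O := by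
    intro c
    let alg : Algebra k O := ((algebraMap k K).codRestrict O hk).toAlgebra
    have : IsScalarTower k O K := IsScalarTower.of_algebraMap_eq fun _ => rfl
    obtain ⟨y, hy⟩ := IsIntegrallyClosed.algebraMap_eq_of_integral
      ((mem_cst.1 c.2).isIntegral.tower_top (A := O))
    change (c : K) ∈ O
    rw [← hy]
    exact y.2
  obtain ⟨P, hP⟩ := exists_place_of_valuationSubring (isFunctionField_cst hK) O hcst hO
  exact ⟨ofCst P, hP⟩

end Groth.Agent.H23Ext
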