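import Mathlib
import Groth.Agent.H23Ext.Over
import Groth.Agent.H23Geom.Unram
import Groth.Agent.H23Diff.Local

/-!
The integral closure of a place in a finite extension: finiteness and the norm.
-/

set_option autoImplicit false
set_option linter.unusedSectionVars false
set_option linter.style.haveILetI false

namespace Groth.Agent.H23Ext

open WithZero Groth.Agent.H23FunFld

universe u3

variable {k K : Type*} {K' : Type u3} [Field k] [Field K] [Field K'] [Algebra k K] [Algebra K K'] [Algebra k K']
  [IsScalarTower k K K'] [FiniteDimensional K K'] (hK : FunFld.IsFunctionField k K)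

theorem isNoetherian_placeO {L : Type*} [Field L] [Algebra k L] (hL : FunFld.IsFunctionField k L)
    (P : FunFld.Place k L) : IsPrincipalIdealRing P.O := by
  haveI : IsNoetherianRing P.O := by
    exact isNoetherianRing_valuationSubring hL P.O (fun c => P.2.1 c)
  exact ((IsBezout.TFAE (R := P.O)).out 0 1).1 ‹_›

variable (P : FunFld.Place k K) [Algebra P.O K'] [IsScalarTower P.O K K'] [IsScalarTower k P.O K']

omit hK in
theorem val_le_one_of_integral {Q : FunFld.Place k K'} (h : FunFld.IsOver Q P) {z : K'}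
    (hz : IsIntegral P.O z) : Q.1 z ≤ 1 := by
  have hle : ∀ r : P.O, Q.1 (algebraMap P.O K' r) ≤ 1 := fun r => by
    rw [IsScalarTower.algebraMap_apply P.O K K']
    exact (le_one_iff_of_isOver h (r : K)).2 r.2
  obtain ⟨p, hm, hp⟩ := hz
  by_contra hgt
  rw [not_le] at hgt
  rw [Polynomial.eval₂_eq_sum_range, Finset.sum_range_succ, hm.coeff_natDegree, map_one, one_mul] at hp
  have hlt : Q.1 (∑ i ∈ Finset.range p.natDegree, algebraMap P.O K' (p.coeff i) * z ^ i) <
      Q.1 z ^ p.natDegree := by
    refine Q.1.map_sum_lt' (pow_pos (zero_lt_one.trans hgt) _) fun i hi => ?_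
    rw [map_mul, map_pow]
    exact (mul_le_of_le_one_left zero_le (hle _)).trans_lt
      (pow_lt_pow_right₀ hgt (Finset.mem_range.1 hi))
  rw [eq_neg_of_add_eq_zero_left hp, Valuation.map_neg, map_pow] at hlt
  exact lt_irrefl _ hlt

include hK

theorem mem_integralClosure_iff {z : K'} :
    z ∈ integralClosure P.O K' ↔ ∀ Q : FunFld.Place k K', FunFld.IsOver Q P → Q.1 z ≤ 1 :=
  ⟨fun hz Q hQ => val_le_one_of_integral P hQ (show IsIntegral P.O z from hz),
    fun h => by
      obtain ⟨p, hm, hp⟩ := Groth.Agent.H23Geom.isIntegral_of_forall_over hK.1 P h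
      refine ⟨p, hm, ?_⟩
      rw [← hp]
      exact Polynomial.eval₂_congr (RingHom.ext fun r => IsScalarTower.algebraMap_apply P.O K K' r) rfl rfl⟩

theorem finite_res (Q : FunFld.Place k K') : FiniteDimensional k (IsLocalRing.ResidueField Q.O) :=
  Module.finite_of_finrank_pos (deg_pos' (isFF_extension (K' := K') hK.1) Q)

/-- The integral closure modulo functions with prescribed orders. -/
theorem exists_orders_quotient (S : Finset (FunFld.Place k K')) (hS : ∀ Q, Q ∈ S ↔ FunFld.IsOver Q P)
    {x : K'} (hx0 : x ≠ 0) (hx : x ∈ integralClosure P.O K') :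
    ∃ (V : Type u3) (_ : AddCommGroup V) (_ : Module k V) (f : integralClosure P.O K' →ₗ[k] V),
      FiniteDimensional k V ∧ Function.Surjective f ∧
      (∀ z, f z = 0 ↔ (z : K') / x ∈ integralClosure P.O K') ∧
      (Module.finrank k V : ℤ) = ∑ Q ∈ S, (Q.deg : ℤ) * Q.ord x := by
  classical
  set E : FunFld.Divisor k K' := Finsupp.onFinset S (fun Q => if Q ∈ S then Q.ord x else 0)
    (fun Q h => by by_contra hQ; exact h (if_neg hQ))
  have hEapply : ∀ Q ∈ S, E Q = Q.ord x := fun Q hQ => by simp [E, hQ]
  have hE0 : 0 ≤ E := fun Q => by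
    by_cases hQ : Q ∈ S
    · rw [Finsupp.coe_zero, Pi.zero_apply, hEapply Q hQ]
      exact (val_le_one_iff Q hx0).1 ((mem_integralClosure_iff hK P).1 hx Q ((hS Q).1 hQ))
    · simp [E, hQ]
  have hsupp : E.support ⊆ S := Finsupp.support_onFinset_subset
  have h := relDim_semiBall S (fun Q _ => finite_res hK Q) (-E) E hE0 hsupp
  rw [neg_add_cancel] at h
  set A := semiBall (S : Set (FunFld.Place k K')) (-E)
  set B := semiBall (S : Set (FunFld.Place k K')) (0 : FunFld.Divisor k K')
  have hmem : ∀ z : K', z ∈ B ↔ z ∈ integralClosure P.O K' := fun z => by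
    rw [mem_semiBall, mem_integralClosure_iff hK P]
    simp only [Finset.mem_coe, Finsupp.coe_zero, Pi.zero_apply, exp_zero]
    exact ⟨fun h Q hQ => h Q ((hS Q).2 hQ), fun h Q hQ => h Q ((hS Q).1 hQ)⟩
  let ι : integralClosure P.O K' →ₗ[k] B :=
    { toFun := fun z => ⟨z, (hmem z).2 z.2⟩
      map_add' := fun _ _ => rfl
      map_smul' := fun _ _ => rfl }
  refine ⟨↥B ⧸ A.comap B.subtype, inferInstance, inferInstance, (Submodule.mkQ _).comp ι, h.1, ?_, fun z => ?_, ?_⟩
  · intro v
    obtain ⟨b, rfl⟩ := Submodule.mkQ_surjective _ v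
    exact ⟨⟨b, (hmem b).1 b.2⟩, rfl⟩
  · rw [LinearMap.comp_apply, Submodule.mkQ_apply, Submodule.Quotient.mk_eq_zero, Submodule.mem_comap,
      mem_integralClosure_iff hK P]
    change (z : K') ∈ A ↔ _
    rw [mem_semiBall]
    have hval : ∀ Q ∈ S, exp ((-E) Q) = Q.1 x := fun Q hQ => by
      rw [Finsupp.neg_apply, hEapply Q hQ, val_eq_exp Q hx0]
    constructor
    · intro h Q hQ
      rw [map_div₀]
      exact div_le_one_of_le₀ ((h Q ((hS Q).2 hQ)).trans (hval Q ((hS Q).2 hQ)).le) zero_le
    · intro h Q hQ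
      have h1 := h Q ((hS Q).1 hQ)
      rw [map_div₀, div_le_one₀ (zero_lt_iff.2 (val_ne_zero Q hx0))] at h1
      exact h1.trans (hval Q hQ).ge
  · rw [h.2, FunFld.Divisor.deg, Finsupp.sum_of_support_subset _ hsupp (fun (Q : FunFld.Place k K') (n : ℤ) => n * (Q.deg : ℤ)) (fun Q _ => zero_mul _)]
    exact Finset.sum_congr rfl fun Q hQ => by rw [hEapply Q hQ, mul_comm]

/-- Finiteness, in any characteristic. -/
theorem finite_integralClosure : Module.Finite P.O (integralClosure P.O K') := by
  classical
  haveI := isNoetherian_placeO hK P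
  set R := integralClosure P.O K'
  set S := (finite_isOver (K' := K') hK P).toFinset
  have hS : ∀ Q, Q ∈ S ↔ FunFld.IsOver Q P := fun Q => Set.Finite.mem_toFinset _
  obtain ⟨t, ht0, ht⟩ := exists_val_eq P (-1)
  have htO : P.1 t ≤ 1 := by rw [ht, ← exp_zero, exp_le_exp]; omega
  set T : K' := algebraMap K K' t
  have hT0 : T ≠ 0 := by simpa [T] using ht0
  have hTR : T ∈ R := by
    have := R.algebraMap_mem (⟨t, htO⟩ : P.O)
    rwa [IsScalarTower.algebraMap_apply P.O K K'] at this
  obtain ⟨V, _, _, f, hV, hf, hker, hdim⟩ := exists_orders_quotient hK P S hS hT0 hTR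
  set n := Module.finrank K K'
  have hdim' : (Module.finrank k V : ℤ) = n * P.deg := by
    rw [hdim]
    have h := sum_ramIdx_mul_deg (K' := K') hK P S hS
    have h' : ((∑ Q ∈ S, FunFld.ramIdx Q P * Q.deg : ℕ) : ℤ) = ((n * P.deg : ℕ) : ℤ) := by rw [h]
    push_cast at h'
    rw [← h']
    refine Finset.sum_congr rfl fun Q hQ => ?_
    obtain ⟨e, he⟩ := (hS Q).1 hQ
    rw [ramIdx_eq he, IsOverWith.ord_eq he, show P.ord t = 1 by simp [FunFld.Place.ord, ht], mul_one, mul_comm]
  -- lifts of a spanning set and the submodule they generate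
  let w := Module.finBasis k V
  choose g hg using fun i => hf (w i)
  set M : Submodule P.O K' := Submodule.span P.O (Set.range fun i => (g i : K'))
  have hMR : ∀ z ∈ M, z ∈ R := fun z hz => by
    refine Submodule.span_le (p := Subalgebra.toSubmodule R) |>.2 ?_ hz
    rintro _ ⟨i, rfl⟩
    exact (g i).2
  haveI : Module.Finite P.O M := Module.Finite.span_of_finite _ (Set.finite_range _)
  haveI : Module.IsTorsionFree P.O K' :=
    Module.isTorsionFree_iff_algebraMap_injective.2 (by
      rw [IsScalarTower.algebraMap_eq P.O K K']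
      exact (algebraMap K K').injective.comp Subtype.val_injective)
  haveI : Module.Free P.O M := Module.free_of_finite_type_torsion_free'
  let b := Module.Free.chooseBasis P.O M
  set ι := Module.Free.ChooseBasisIndex P.O M
  haveI : Fintype ι := inferInstance
  have hli : LinearIndependent K fun i => ((b i : M) : K') := by
    rw [← LinearIndependent.iff_fractionRing (R := P.O) (K := K)]
    exact b.linearIndependent.map' M.subtype M.ker_subtype
  have hr : Fintype.card ι ≤ n := hli.fintype_card_le_finrank
  -- the comparison with residue vectors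
  let ψ : (ι → P.O) →ₗ[k] V :=
    { toFun := fun c => f ⟨∑ i, c i • ((b i : M) : K'), hMR _ (M.sum_mem fun i _ => M.smul_mem _ (b i).2)⟩
      map_add' := fun c c' => by
        rw [← map_add]; congr 1
        exact Subtype.ext (by simp [add_smul, Finset.sum_add_distrib])
      map_smul' := fun a c => by
        rw [RingHom.id_apply, ← map_smul]; congr 1
        exact Subtype.ext (by simp [Finset.smul_sum]) }
  let π : (ι → P.O) →ₗ[k] (ι → IsLocalRing.ResidueField P.O) :=
    { toFun := fun c i => IsLocalRing.residue P.O (c i)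
      map_add' := fun c c' => by funext i; simp
      map_smul' := fun a c => by
        funext i
        simp only [Pi.smul_apply, RingHom.id_apply, Algebra.smul_def, map_mul]
        rfl }
  have hπ : Function.Surjective π := fun v => by
    choose c hc using fun i => IsLocalRing.residue_surjective (v i)
    exact ⟨c, funext hc⟩
  have hψ : Function.Surjective ψ := by
    intro v
    rw [← w.sum_repr v]
    have hmem : ∑ i, w.repr v i • (g i : K') ∈ M :=
      M.sum_mem fun i _ => by
        rw [← IsScalarTower.algebraMap_smul P.O (w.repr v i) (g i : K')]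
        exact M.smul_mem _ (Submodule.subset_span ⟨i, rfl⟩)
    refine ⟨fun i => b.repr ⟨_, hmem⟩ i, ?_⟩
    have e : ∑ i, b.repr ⟨_, hmem⟩ i • ((b i : M) : K') = ∑ i, w.repr v i • (g i : K') := by
      have := congrArg (fun m : M => (m : K')) (b.sum_repr ⟨_, hmem⟩)
      simp only [Submodule.coe_sum, Submodule.coe_smul] at this
      exact this
    calc f ⟨_, _⟩ = f (∑ i, w.repr v i • g i) := by
          congr 1
          exact Subtype.ext (e.trans (by simp))
      _ = _ := by simp [map_sum, hg]
  have hle : LinearMap.ker π ≤ LinearMap.ker ψ := by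
    intro c hc
    rw [LinearMap.mem_ker] at hc ⊢
    refine (hker _).2 ?_
    change (∑ i, c i • ((b i : M) : K')) / T ∈ R
    rw [Finset.sum_div]
    refine R.sum_mem fun i _ => ?_
    have h0 : IsLocalRing.residue P.O (c i) = 0 := congrFun hc i
    rw [IsLocalRing.residue_eq_zero_iff, ValuationSubring.valuation_lt_one_iff,
      ← P.1.isEquiv_valuation_valuationSubring.lt_one_iff_lt_one] at h0
    have hdiv : P.1 ((c i : K) / t) ≤ 1 := by
      rw [map_div₀, ht, div_eq_mul_inv, ← exp_neg, neg_neg]
      calc P.1 (c i : K) * exp 1 ≤ exp (-1) * exp 1 := mul_le_mul' (Groth.Agent.H23Diff.le_exp_neg_one' h0) le_rfl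
        _ = 1 := by rw [← exp_add, neg_add_cancel, exp_zero]
    have e : c i • ((b i : M) : K') / T = (⟨(c i : K) / t, hdiv⟩ : P.O) • ((b i : M) : K') := by
      rw [Algebra.smul_def, Algebra.smul_def, IsScalarTower.algebraMap_apply P.O K K',
        IsScalarTower.algebraMap_apply P.O K K']
      change algebraMap K K' (c i : K) * _ / T = algebraMap K K' ((c i : K) / t) * _
      rw [map_div₀]; ring
    rw [e]
    exact R.smul_mem (hMR _ (b i).2) _
  haveI := finiteDimensional_residueField hK P
  let eπ := π.quotKerEquivOfSurjective hπ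
  haveI : FiniteDimensional k ((ι → P.O) ⧸ LinearMap.ker π) := eπ.symm.finiteDimensional
  have hdimπ : Module.finrank k ((ι → P.O) ⧸ LinearMap.ker π) = Fintype.card ι * P.deg := by
    rw [eπ.finrank_eq, Module.finrank_pi_fintype, Finset.sum_const, Finset.card_univ, smul_eq_mul]
    rfl
  let φ : ((ι → P.O) ⧸ LinearMap.ker π) →ₗ[k] V := (LinearMap.ker π).liftQ ψ hle
  have hφ : Function.Surjective φ := fun v => by
    obtain ⟨c, rfl⟩ := hψ v
    exact ⟨Submodule.Quotient.mk c, rfl⟩
  have h1 := LinearMap.finrank_le_finrank_of_surjective (f := φ) hφ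
  rw [hdimπ] at h1
  have hdn : (Module.finrank k V) = n * P.deg := by exact_mod_cast hdim'
  have hdP := deg_pos hK P
  have hcard : Fintype.card ι = n := le_antisymm hr (Nat.le_of_mul_le_mul_right (hdn ▸ h1) hdP)
  have hφi : Function.Injective φ :=
    (LinearMap.injective_iff_surjective_of_finrank_eq_finrank (by rw [hdimπ, hdn, hcard])).2 hφ
  -- the submodule is everything
  suffices hall : ∀ z ∈ R, z ∈ M by
    refine Module.Finite.of_injective
      ((Subalgebra.toSubmodule R).subtype.codRestrict M fun z => hall _ z.2) fun a b h => ?_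
    exact Subtype.ext (congrArg Subtype.val h :)
  intro z hz
  have hspan : Submodule.span K (Set.range fun i => ((b i : M) : K')) = ⊤ := by
    rcases isEmpty_or_nonempty ι with h0 | h0
    · have : n = 0 := by rw [← hcard, Fintype.card_eq_zero]
      exact absurd this Module.finrank_pos.ne'
    · exact hli.span_eq_top_of_card_eq_finrank hcard
  obtain ⟨a, ha⟩ := (Submodule.mem_span_range_iff_exists_fun K).1 (hspan ▸ Submodule.mem_top (x := z))
  have hdesc : ∀ N : ℕ, (∀ i, P.1 (a i) ≤ exp (N : ℤ)) → ∀ i, P.1 (a i) ≤ 1 := by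
    intro N
    induction N with
    | zero => intro h i; simpa using h i
    | succ N ih =>
      intro h
      refine ih fun i => ?_
      let c : ι → P.O := fun j => ⟨t ^ (N + 1) * a j, by
        change P.1 _ ≤ 1
        rw [map_mul, map_pow, ht, ← exp_nsmul]
        calc exp ((N + 1) • (-1 : ℤ)) * P.1 (a j) ≤ exp ((N + 1) • (-1 : ℤ)) * exp ((N + 1 : ℕ) : ℤ) :=
              mul_le_mul' le_rfl (h j)
          _ = 1 := by rw [← exp_add, ← exp_zero]; congr 1; simp⟩
      have hc : ψ c = 0 := by
        refine (hker _).2 ?_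
        change (∑ j, c j • ((b j : M) : K')) / T ∈ R
        have e : (∑ j, c j • ((b j : M) : K')) = T ^ (N + 1) * z := by
          rw [← ha, Finset.mul_sum]
          refine Finset.sum_congr rfl fun j _ => ?_
          rw [Algebra.smul_def, Algebra.smul_def, IsScalarTower.algebraMap_apply P.O K K']
          change algebraMap K K' (t ^ (N + 1) * a j) * _ = _
          rw [map_mul, map_pow]; ring
        rw [e, pow_succ, mul_assoc, mul_comm T z, ← mul_assoc, mul_div_assoc, div_self hT0, mul_one]
        exact R.mul_mem (pow_mem hTR N) hz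
      have hc' : π c = 0 := by
        have : φ (Submodule.Quotient.mk c) = φ 0 := by rw [map_zero]; exact hc
        exact LinearMap.mem_ker.1 ((Submodule.Quotient.mk_eq_zero _).1 (hφi this))
      have h0 : IsLocalRing.residue P.O (c i) = 0 := congrFun hc' i
      rw [IsLocalRing.residue_eq_zero_iff, ValuationSubring.valuation_lt_one_iff,
        ← P.1.isEquiv_valuation_valuationSubring.lt_one_iff_lt_one] at h0
      have h0' := Groth.Agent.H23Diff.le_exp_neg_one' h0
      change P.1 (t ^ (N + 1) * a i) ≤ exp (-1 : ℤ) at h0'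
      rcases eq_or_ne (a i) 0 with hai | hai
      · simp [hai]
      rw [val_eq_exp P hai, exp_le_exp]
      rw [map_mul, map_pow, ht, ← exp_nsmul, val_eq_exp P hai, ← exp_add, exp_le_exp] at h0'
      simp at h0'
      omega
  have hint : ∀ i, P.1 (a i) ≤ 1 := by
    refine hdesc (Finset.univ.sup fun i => (-P.ord (a i)).toNat) fun i => ?_
    rcases eq_or_ne (a i) 0 with hai | hai
    · simp [hai]
    rw [val_eq_exp P hai, exp_le_exp]
    have := Finset.le_sup (f := fun i => (-P.ord (a i)).toNat) (Finset.mem_univ i)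
    omega
  rw [← ha]
  refine M.sum_mem fun i _ => ?_
  have e : a i • ((b i : M) : K') = (⟨a i, hint i⟩ : P.O) • ((b i : M) : K') := (IsScalarTower.algebraMap_smul K (⟨a i, hint i⟩ : P.O) _)
  rw [e]
  exact M.smul_mem _ (b i).2

omit [Algebra P.O K'] [IsScalarTower P.O K K'] [IsScalarTower k P.O K'] in
theorem finrank_quotient_span {a : P.O} (ha : a ≠ 0) :
    FiniteDimensional k (P.O ⧸ Ideal.span ({a} : Set P.O)) ∧
      (Module.finrank k (P.O ⧸ Ideal.span ({a} : Set P.O)) : ℤ) = (P.deg : ℤ) * P.ord (a : K) := by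
  classical
  have ha0 : (a : K) ≠ 0 := fun h => ha (Subtype.ext h)
  have hpos : 0 ≤ P.ord (a : K) := (val_le_one_iff P ha0).1 a.2
  set E : FunFld.Divisor k K := Finsupp.single P (P.ord (a : K))
  have h := relDim_semiBall {P} (fun Q _ => finiteDimensional_residueField hK Q) (-E) E
    (Finsupp.single_nonneg.2 hpos) Finsupp.support_single_subset
  rw [neg_add_cancel] at h
  set A := semiBall (({P} : Finset (FunFld.Place k K)) : Set (FunFld.Place k K)) (-E)
  set B := semiBall (({P} : Finset (FunFld.Place k K)) : Set (FunFld.Place k K)) (0 : FunFld.Divisor k K)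
  have hmem : ∀ z : K, z ∈ B ↔ P.1 z ≤ 1 := fun z => by simp [B, mem_semiBall]
  let ι : P.O →ₗ[k] B :=
    { toFun := fun z => ⟨z, (hmem z).2 z.2⟩
      map_add' := fun _ _ => rfl
      map_smul' := fun c z => Subtype.ext (by
        change ((c • z : P.O) : K) = c • (z : K)
        rw [Algebra.smul_def, Algebra.smul_def]
        rfl) }
  let f := (Submodule.mkQ (A.comap B.subtype)).comp ι
  have hf : Function.Surjective f := fun v => by
    obtain ⟨b, rfl⟩ := Submodule.mkQ_surjective _ v
    exact ⟨⟨b, (hmem b).1 b.2⟩, rfl⟩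
  have hker : LinearMap.ker f = (Ideal.span ({a} : Set P.O)).restrictScalars k := by
    ext z
    rw [LinearMap.mem_ker, LinearMap.comp_apply, Submodule.mkQ_apply, Submodule.Quotient.mk_eq_zero,
      Submodule.mem_comap, Submodule.restrictScalars_mem, Ideal.mem_span_singleton']
    change (z : K) ∈ A ↔ _
    simp only [A, mem_semiBall, Finset.coe_singleton, Set.mem_singleton_iff, forall_eq, E, Finsupp.neg_apply,
      Finsupp.single_eq_same]
    rw [← val_eq_exp P ha0]
    constructor
    · intro h1
      exact ⟨⟨(z : K) / a, by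
        change P.1 _ ≤ 1
        rw [map_div₀]; exact div_le_one_of_le₀ h1 zero_le⟩, Subtype.ext (div_mul_cancel₀ _ ha0)⟩
    · rintro ⟨b, rfl⟩
      change P.1 ((b : K) * (a : K)) ≤ _
      rw [map_mul]
      exact mul_le_of_le_one_left zero_le b.2
  let e := ((Submodule.Quotient.restrictScalarsEquiv k (Ideal.span ({a} : Set P.O))).symm.trans
    (Submodule.quotEquivOfEq _ _ hker.symm)).trans (f.quotKerEquivOfSurjective hf)
  haveI := h.1
  refine ⟨e.symm.finiteDimensional, ?_⟩
  rw [e.finrank_eq, h.2, deg_single, mul_comm]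

/-- The order of a norm. -/
theorem ord_norm {x : K'} (hx0 : x ≠ 0) (hx : x ∈ integralClosure P.O K') (S : Finset (FunFld.Place k K'))
    (hS : ∀ Q, Q ∈ S ↔ FunFld.IsOver Q P) :
    (P.deg : ℤ) * P.ord (Algebra.norm K x) = ∑ Q ∈ S, (Q.deg : ℤ) * Q.ord x := by
  classical
  haveI := isNoetherian_placeO hK P
  haveI := finite_integralClosure (K' := K') hK P
  set R := integralClosure P.O K'
  haveI : Module.IsTorsionFree P.O R :=
    Module.isTorsionFree_iff_algebraMap_injective.2 (by
      intro u v huv
      have := congrArg (fun r : R => (r : K')) huv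
      simp only [Subalgebra.coe_algebraMap, IsScalarTower.algebraMap_apply P.O K K'] at this
      exact Subtype.ext ((algebraMap K K').injective this))
  haveI : Module.Free P.O R := Module.free_of_finite_type_torsion_free'
  let b := Module.Free.chooseBasis P.O R
  obtain ⟨V, _, _, f, hV, hf, hker, hdim⟩ := exists_orders_quotient hK P S hS hx0 hx
  set xR : R := ⟨x, hx⟩
  have hxR : xR ≠ 0 := fun h => hx0 (congrArg Subtype.val h)
  set I := Ideal.span ({xR} : Set R)
  have hI : I ≠ ⊥ := Ideal.span_singleton_eq_bot.not.2 hxR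
  have hkerI : LinearMap.ker f = I.restrictScalars k := by
    ext z
    rw [LinearMap.mem_ker, hker, Submodule.restrictScalars_mem, Ideal.mem_span_singleton']
    exact ⟨fun h => ⟨⟨_, h⟩, Subtype.ext (div_mul_cancel₀ _ hx0)⟩, by
      rintro ⟨c, rfl⟩
      change ((c : K') * x) / x ∈ R
      rw [mul_div_assoc, div_self hx0, mul_one]
      exact c.2⟩
  let e := ((Submodule.Quotient.restrictScalarsEquiv k I).symm.trans
    (Submodule.quotEquivOfEq _ _ hkerI.symm)).trans (f.quotKerEquivOfSurjective hf)
  rw [← hdim, ← e.finrank_eq]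
  have hne : ∀ i, I.smithCoeffs b hI i ≠ 0 := fun i => I.smithCoeffs_ne_zero b hI i
  haveI : ∀ i, Module.Finite k (P.O ⧸ Ideal.span ({I.smithCoeffs b hI i} : Set P.O)) := fun i =>
    (finrank_quotient_span hK P (hne i)).1
  rw [Ideal.finrank_quotient_eq_sum k hI b, Nat.cast_sum,
    Finset.sum_congr rfl fun i _ => (finrank_quotient_span hK P (hne i)).2, ← Finset.mul_sum]
  congr 1
  obtain ⟨u, hu⟩ := associated_norm_prod_smith b hxR
  have hnorm : Algebra.norm K x = ((Algebra.norm P.O xR : P.O) : K) := by
    haveI : IsLocalization (Algebra.algebraMapSubmonoid R (nonZeroDivisors P.O)) K' :=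
      IsIntegralClosure.isLocalization P.O K K' R
    exact Algebra.norm_localization P.O (Rₘ := K) (Sₘ := K') (nonZeroDivisors P.O) xR
  have hnz : (Algebra.norm K x) ≠ 0 := Algebra.norm_ne_zero_iff.2 hx0
  have hu1 : P.1 ((u : P.O) : K) = 1 := (Groth.Agent.H23Geom.isUnit_O_iff P _).1 u.isUnit
  have hval : P.1 (∏ i, ((I.smithCoeffs b hI i : P.O) : K)) = P.1 (Algebra.norm K x) := by
    rw [hnorm]
    have := congrArg (fun r : P.O => P.1 (r : K)) hu
    simp only [MulMemClass.coe_mul, map_mul, hu1, mul_one] at this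
    rw [this]
    simp
    rfl
  rw [map_prod, val_eq_exp P hnz] at hval
  have hterm : ∀ i, P.1 ((I.smithCoeffs b hI i : P.O) : K) = exp (-P.ord ((I.smithCoeffs b hI i : P.O) : K)) :=
    fun i => val_eq_exp P fun h => hne i (Subtype.ext h)
  have hexp : ∀ {ι' : Type _} (t : Finset ι') (n : ι' → ℤ), exp (∑ i ∈ t, n i) = ∏ i ∈ t, exp (n i) := by
    intro ι' t n
    induction t using Finset.induction_on with
    | empty => simp
    | insert a s' ha ih => rw [Finset.sum_insert ha, Finset.prod_insert ha, exp_add, ih]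
  rw [Finset.prod_congr rfl fun i _ => hterm i, ← hexp, exp_inj, Finset.sum_neg_distrib, neg_inj] at hval
  exact hval.symm

end Groth.Agent.H23Ext
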