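import Groth.Agent.H23Ext.Over
import Groth.Agent.H23FunFld.Approx
import Mathlib.RingTheory.Valuation.RamificationGroup
import Mathlib.RingTheory.Norm.Transitivity
import Mathlib.RingTheory.Norm.Basic
import Mathlib.GroupTheory.GroupAction.CardCommute

/-! Galois extensions: conjugate places. -/

set_option autoImplicit false
set_option linter.unusedSectionVars false

namespace Groth.Agent.H23Ext

open Groth.Agent.H23FunFld WithZero
open scoped Pointwise

variable {k K K' : Type*} [Field k] [Field K] [Field K'] [Algebra k K] [Algebra K K'] [Algebra k K']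
  [IsScalarTower k K K']

/-- The place `x ↦ v_Q (σ x)`. -/
def conj (σ : K' ≃ₐ[K] K') (Q : FunFld.Place k K') : FunFld.Place k K' :=
  ⟨Q.1.comap (σ : K' →+* K'), fun c => by
    change Q.1 (σ (algebraMap k K' c)) ≤ 1
    rw [IsScalarTower.algebraMap_apply k K K', σ.commutes, ← IsScalarTower.algebraMap_apply]
    exact Q.2.1 c, fun a => by
    obtain ⟨x, hx⟩ := Q.2.2 a
    exact ⟨σ.symm x, by change Q.1 (σ (σ.symm x)) = a; rw [σ.apply_symm_apply, hx]⟩⟩

theorem conj_apply (σ : K' ≃ₐ[K] K') (Q : FunFld.Place k K') (x : K') :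
    (conj σ Q).1 x = Q.1 (σ x) := rfl

theorem isOverWith_conj {Q : FunFld.Place k K'} {P : FunFld.Place k K} {e : ℕ}
    (h : FunFld.IsOverWith Q P e) (σ : K' ≃ₐ[K] K') : FunFld.IsOverWith (conj σ Q) P e := fun x => by
  rw [conj_apply, σ.commutes]; exact h x

theorem deg_conj (σ : K' ≃ₐ[K] K') (Q : FunFld.Place k K') : (conj σ Q).deg = Q.deg := by
  let e : (conj σ Q).O ≃+* Q.O :=
    { toFun := fun x => ⟨σ x, x.2⟩
      invFun := fun y => ⟨σ.symm y, by
        change Q.1 (σ (σ.symm y)) ≤ 1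
        rw [σ.apply_symm_apply]; exact y.2⟩
      left_inv := fun x => Subtype.ext (σ.symm_apply_apply x)
      right_inv := fun y => Subtype.ext (σ.apply_symm_apply y)
      map_mul' := fun x y => Subtype.ext (map_mul σ (x : K') y)
      map_add' := fun x y => Subtype.ext (map_add σ (x : K') y) }
  refine Algebra.finrank_eq_of_equiv_equiv (RingEquiv.refl k)
    (IsLocalRing.ResidueField.mapEquiv e) (RingHom.ext fun c => ?_)
  change IsLocalRing.residue Q.O (algebraMap k Q.O c) =
    IsLocalRing.residue Q.O (e (algebraMap k (conj σ Q).O c))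
  congr 1
  refine Subtype.ext ?_
  change algebraMap k K' c = σ (algebraMap k K' c)
  rw [IsScalarTower.algebraMap_apply k K K', σ.commutes]

variable [FiniteDimensional K K']

theorem exists_conj [IsGalois K K'] {Q₁ Q₂ : FunFld.Place k K'} {P : FunFld.Place k K}
    (h₁ : FunFld.IsOver Q₁ P) (h₂ : FunFld.IsOver Q₂ P) :
    ∃ σ : K' ≃ₐ[K] K', conj σ Q₁ = Q₂ := by
  classical
  by_contra hno
  simp only [not_exists] at hno
  let S₁ := (Finset.univ : Finset (K' ≃ₐ[K] K')).image (fun σ => conj σ Q₁)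
  let S₂ := (Finset.univ : Finset (K' ≃ₐ[K] K')).image (fun σ => conj σ Q₂)
  have hdis : ∀ R ∈ S₁, R ∉ S₂ := by
    intro R hR hR2
    simp only [S₁, S₂, Finset.mem_image, Finset.mem_univ, true_and] at hR hR2
    obtain ⟨σ, rfl⟩ := hR
    obtain ⟨τ, hτ⟩ := hR2
    refine hno (σ * τ⁻¹) (Subtype.ext (Valuation.ext fun x => ?_))
    have h3 := DFunLike.congr_fun (congrArg (fun R : FunFld.Place k K' => R.1) hτ) (τ⁻¹ x)
    simp only [conj_apply] at h3
    rw [conj_apply, AlgEquiv.mul_apply, ← h3]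
    exact congrArg Q₂.1 (τ.apply_symm_apply x)
  obtain ⟨x, hx⟩ := approximation (S₁ ∪ S₂) (fun R => if R ∈ S₁ then 1 else 0) (fun _ => -1)
  have hlt : (exp (-1 : ℤ) : WithZero (Multiplicative ℤ)) < 1 := by
    rw [← exp_zero, exp_lt_exp]; omega
  have h1 : ∀ σ : K' ≃ₐ[K] K', Q₁.1 (σ x) = 1 := fun σ => by
    have hm : conj σ Q₁ ∈ S₁ := Finset.mem_image_of_mem _ (Finset.mem_univ σ)
    have h := hx _ (Finset.mem_union_left _ hm)
    simp only [hm, if_true, conj_apply, map_sub, map_one] at h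
    have h' : Q₁.1 (σ x - 1) < 1 := h.trans_lt hlt
    have := Q₁.1.map_one_add_of_lt h'
    rwa [add_sub_cancel] at this
  have h2 : ∀ σ : K' ≃ₐ[K] K', Q₂.1 (σ x) < 1 := fun σ => by
    have hm : conj σ Q₂ ∈ S₂ := Finset.mem_image_of_mem _ (Finset.mem_univ σ)
    have h := hx _ (Finset.mem_union_right _ hm)
    have hn : conj σ Q₂ ∉ S₁ := fun h' => hdis _ h' hm
    simp only [hn, if_false, sub_zero, conj_apply] at h
    exact h.trans_lt hlt
  have hN := Algebra.norm_eq_prod_automorphisms K x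
  obtain ⟨e₁, he₁⟩ := h₁
  obtain ⟨e₂, he₂⟩ := h₂
  have hP : P.1 (Algebra.norm K x) = 1 := by
    have := he₁ (Algebra.norm K x)
    rw [hN, map_prod, Finset.prod_eq_one (fun σ _ => h1 σ)] at this
    exact (pow_eq_one_iff.1 this.symm).resolve_right (IsOverWith.pos he₁).ne'
  have := he₂ (Algebra.norm K x)
  rw [hN, map_prod, hP, one_pow] at this
  have hlt2 : ∏ σ : K' ≃ₐ[K] K', Q₂.1 (σ x) < 1 := by
    rw [← Finset.mul_prod_erase _ _ (Finset.mem_univ (1 : K' ≃ₐ[K] K'))]
    exact mul_lt_one_of_lt_of_le (h2 1) (Finset.prod_le_one (fun _ _ => zero_le) fun σ _ => (h2 σ).le)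
  exact hlt2.ne this

theorem conj_injective_O {R R' : FunFld.Place k K'} (h : R.O = R'.O) : R = R' :=
  place_eq_of_le fun x hx => by
    have : x ∈ R.O := hx
    rw [h] at this
    exact this

theorem O_conj (σ : K' ≃ₐ[K] K') (Q : FunFld.Place k K') :
    (conj σ Q).O = σ⁻¹ • Q.O := by
  ext x
  rw [ValuationSubring.mem_pointwise_smul_iff_inv_smul_mem, inv_inv]
  rfl

theorem mem_decomposition {σ : K' ≃ₐ[K] K'} {Q : FunFld.Place k K'} :
    σ ∈ Q.O.decompositionSubgroup K ↔ conj σ Q = Q := by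
  rw [← inv_mem_iff, MulAction.mem_stabilizer_iff, ← O_conj]
  exact ⟨fun h => conj_injective_O h, fun h => by rw [h]⟩

theorem card_places_mul_card_decomposition [IsGalois K K'] {Q : FunFld.Place k K'}
    {P : FunFld.Place k K} (h : FunFld.IsOver Q P) :
    Nat.card {Q' : FunFld.Place k K' // FunFld.IsOver Q' P} *
      Nat.card (Q.O.decompositionSubgroup K) = Module.finrank K K' := by
  rw [← IsGalois.card_aut_eq_finrank K K']
  have e : Nat.card {Q' : FunFld.Place k K' // FunFld.IsOver Q' P} =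
      Nat.card (MulAction.orbit (K' ≃ₐ[K] K') Q.O) := by
    refine Nat.card_eq_of_bijective (fun Q' => ⟨Q'.1.O, ?_⟩) ⟨fun a b hab => ?_, fun O => ?_⟩
    · obtain ⟨σ, hσ⟩ := exists_conj h Q'.2
      exact ⟨σ⁻¹, by rw [← hσ, O_conj]⟩
    · exact Subtype.ext (conj_injective_O (congrArg Subtype.val hab))
    · obtain ⟨σ, hσ⟩ := O.2
      exact ⟨⟨conj σ⁻¹ Q, h.choose, isOverWith_conj h.choose_spec _⟩, Subtype.ext (by
        change (conj σ⁻¹ Q).O = _
        rw [O_conj, inv_inv]; exact hσ)⟩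
  rw [e, show Nat.card (MulAction.orbit (K' ≃ₐ[K] K') Q.O) =
    (MulAction.stabilizer (K' ≃ₐ[K] K') Q.O).index from
    (MulAction.index_stabilizer _ _).symm, mul_comm]
  exact Subgroup.card_mul_index _

end Groth.Agent.H23Ext
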