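import Mathlib
import Groth.Agent.H23Ext.Galois

/-!
The fundamental identity without assumption on the constants.
-/

set_option autoImplicit false
set_option linter.unusedSectionVars false
set_option linter.style.haveILetI false

namespace Groth.Agent.H23Ext

open Groth.Agent.H23FunFld

variable {k K K' : Type*} [Field k] [Field K] [Field K'] [Algebra k K] [Algebra K K'] [Algebra k K']
  [IsScalarTower k K K'] [FiniteDimensional K K'] (hK : IsFF k K)
include hK

theorem exists_only_zero' (P : FunFld.Place k K) :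
    ∃ x : K, Transcendental k x ∧ 0 < P.ord x ∧ ∀ R, R ≠ P → R.ord x ≤ 0 := by
  obtain ⟨x, hx, hxP, hother⟩ := exists_only_zero (isFunctionField_cst hK) (toCst P)
  refine ⟨x, fun h => hx (h.tower_top (cst k K)), hxP, fun R hR => hother (toCst R) fun h => hR ?_⟩
  exact Subtype.ext (Subtype.ext_iff.1 h :)

theorem isOver_iff_pos' {P : FunFld.Place k K} {x : K} (hxP : 0 < P.ord x)
    (hx : ∀ R, R ≠ P → R.ord x ≤ 0) (Q : FunFld.Place k K') :
    FunFld.IsOver Q P ↔ 0 < Q.ord (algebraMap K K' x) := by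
  constructor
  · rintro ⟨e, he⟩
    rw [IsOverWith.ord_eq he]
    have := IsOverWith.pos he
    positivity
  · intro hQ
    obtain ⟨R, e, he⟩ := exists_below hK Q
    rw [IsOverWith.ord_eq he] at hQ
    have hR : R = P := by
      by_contra hne
      have := hx R hne
      nlinarith
    exact hR ▸ ⟨e, he⟩

theorem finite_isOver' (P : FunFld.Place k K) :
    {Q : FunFld.Place k K' | FunFld.IsOver Q P}.Finite := by
  obtain ⟨x, -, hxP, hx⟩ := exists_only_zero' hK P
  refine (finite_support (isFF_extension (K' := K') hK) (algebraMap K K' x)).subset fun Q hQ => ?_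
  have := (isOver_iff_pos' hK hxP hx Q).1 hQ
  simp only [Function.mem_support]
  omega

theorem sum_ramIdx_mul_deg' (P : FunFld.Place k K) (Qs : Finset (FunFld.Place k K'))
    (hQs : ∀ Q, Q ∈ Qs ↔ FunFld.IsOver Q P) :
    ∑ Q ∈ Qs, FunFld.ramIdx Q P * Q.deg = Module.finrank K K' * P.deg := by
  obtain ⟨x, htr, hxP, hx⟩ := exists_only_zero' hK P
  have h1 := sum_zeros (isFF_extension (K' := K') hK) (transcendental_algebraMap htr) Qs
    (fun Q => (hQs Q).trans (isOver_iff_pos' hK hxP hx Q))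
  have h2 := sum_zeros hK htr {P} (fun R => by
    rw [Finset.mem_singleton]
    refine ⟨fun h => h ▸ hxP, fun h => ?_⟩
    by_contra hne
    have := hx R hne
    omega)
  rw [Finset.sum_singleton] at h2
  rw [finrank_adjoin_algebraMap, Nat.cast_mul, ← h2] at h1
  have h3 : (P.ord x) * ((∑ Q ∈ Qs, FunFld.ramIdx Q P * Q.deg : ℕ) : ℤ) =
      P.ord x * ((Module.finrank K K' * P.deg : ℕ) : ℤ) := by
    push_cast
    rw [Finset.mul_sum]
    calc ∑ Q ∈ Qs, P.ord x * ((FunFld.ramIdx Q P : ℤ) * Q.deg) =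
        ∑ Q ∈ Qs, Q.ord (algebraMap K K' x) * (Q.deg : ℤ) := Finset.sum_congr rfl fun Q hQ => by
          obtain ⟨e, he⟩ := (hQs Q).1 hQ
          rw [ramIdx_eq he, IsOverWith.ord_eq he]; ring
      _ = _ := by rw [h1]; ring
  exact_mod_cast mul_left_cancel₀ hxP.ne' h3

/-- `|D| deg P = e deg Q`. -/
theorem card_decomposition_mul_deg [IsGalois K K'] {Q : FunFld.Place k K'} {P : FunFld.Place k K} {e : ℕ}
    (he : FunFld.IsOverWith Q P e) :
    Nat.card (Q.O.decompositionSubgroup K) * P.deg = e * Q.deg := by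
  classical
  have hall : ∀ Q' : FunFld.Place k K', FunFld.IsOver Q' P →
      FunFld.IsOverWith Q' P e ∧ Q'.deg = Q.deg := fun Q' hQ' => by
    obtain ⟨σ, rfl⟩ := exists_conj ⟨e, he⟩ hQ'
    exact ⟨isOverWith_conj he σ, deg_conj σ Q⟩
  have hcd := card_places_mul_card_decomposition (Q := Q) (P := P) ⟨e, he⟩
  have hfin := finite_isOver' (K' := K') hK P
  have hsum := sum_ramIdx_mul_deg' hK P hfin.toFinset fun R => Set.Finite.mem_toFinset _
  rw [Finset.sum_congr rfl (g := fun _ => e * Q.deg) (fun R hR => by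
    obtain ⟨h1, h2⟩ := hall R (hfin.mem_toFinset.1 hR)
    rw [ramIdx_eq h1, h2]), Finset.sum_const, smul_eq_mul,
    ← Set.ncard_eq_toFinset_card _ hfin, ← Nat.card_coe_set_eq, ← hcd] at hsum
  have h0 : 0 < Nat.card {R : FunFld.Place k K' // FunFld.IsOver R P} := by
    have : Finite {R : FunFld.Place k K' // FunFld.IsOver R P} := hfin.to_subtype
    have : Nonempty {R : FunFld.Place k K' // FunFld.IsOver R P} := ⟨⟨Q, e, he⟩⟩
    exact Nat.card_pos
  refine (Nat.eq_of_mul_eq_mul_left h0 ?_).symm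
  rw [← mul_assoc]
  exact (mul_assoc _ _ _).trans (hsum.trans (mul_assoc _ _ _))

end Groth.Agent.H23Ext
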